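import Mathlib
import Cfsg.Agent.H910.Inv.Node
import Cfsg.Agent.H191.InvPgl

/-!
# O6 of S3830, odd characteristic (helper910, task 3504)

* `ns_of_sec` : O1 (transfer from a section);
* `ns_of_node` : an automorphism of order `p ≥ 5` preserving `M_i V_J`, `V_J` and moving a chamber of the panel.
-/

set_option autoImplicit false
set_option linter.unusedSectionVars false

namespace Cfsg.Agent.H910.Inv

open Cfsg CoxeterSystem Cfsg.Agent.ChevalleyStructure.CoxeterGeom Cfsg.Agent.Tits.Roots Cfsg.Agent.Tits.Core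
  Cfsg.Agent.Nodes.Reps Cfsg.Agent.Nodes.BNOf Cfsg.Agent.Nodes.StabComb Cfsg.Agent.Nodes.Bruhat
  Cfsg.Agent.Nodes.LeviDec Cfsg.Agent.H53.HC Cfsg.Agent.KFacts.RgdBorelTits Cfsg.Agent.H255.Inv
  Cfsg.Agent.H459.Inv Subgroup
open Cfsg.Agent.H459.Gallery (Iv)
open Cfsg.Agent.ChevalleyStructure.SL2Hom (up lo mem_closure_SL2)
open scoped commutatorElement

section sec

variable {K S : Type*} [Group K] [Finite K] [Group S]

/-- the pairs `(g, g')`, `g` preserves `N` and induces `g'` on the image of `f` -/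
def pairs {N : Subgroup K} (f : N →* S) : Subgroup (MulAut K × MulAut S) where
  carrier := {g | ∃ hg : ∀ a ∈ N, g.1 a ∈ N, ∀ a : N, f ⟨g.1 a, hg a a.2⟩ = g.2 (f a)}
  mul_mem' := by
    rintro g k ⟨hg, hg'⟩ ⟨hk, hk'⟩
    refine ⟨fun a ha => hg _ (hk a ha), fun a => ?_⟩
    have h1 := hg' ⟨k.1 a, hk a a.2⟩
    rw [hk'] at h1
    exact h1
  one_mem' := ⟨fun a ha => ha, fun a => rfl⟩
  inv_mem' := by
    rintro g ⟨hg, hg'⟩
    have h1 : N.map g.1.toMonoidHom = N :=
      Subgroup.eq_of_le_of_card_ge (by rintro _ ⟨a, ha, rfl⟩; exact hg a ha)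
        (le_of_eq (Subgroup.card_map_of_injective g.1.injective).symm)
    have h2 : ∀ a ∈ N, g⁻¹.1 a ∈ N := by
      intro a ha
      rw [← h1] at ha
      obtain ⟨b, hb, rfl⟩ := ha
      have e : g⁻¹.1 (g.1.toMonoidHom b) = b := by
        change (g.1⁻¹ * g.1) b = b
        rw [inv_mul_cancel]; rfl
      rw [e]
      exact hb
    refine ⟨h2, fun a => ?_⟩
    have h3 := hg' ⟨g⁻¹.1 a, h2 a a.2⟩
    have e : g.1 (g⁻¹.1 (a : K)) = a := by
      change (g.1 * g.1⁻¹) (a : K) = a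
      rw [mul_inv_cancel]; rfl
    have h4 : (⟨g.1 (⟨g⁻¹.1 a, h2 a a.2⟩ : N), hg _ (h2 a a.2)⟩ : N) = a := Subtype.ext e
    rw [h4] at h3
    rw [h3]
    change _ = (g.2⁻¹ * g.2) _
    rw [inv_mul_cancel]; rfl

/-- **O1**: transfer of `NS` from an automorphism of a section. -/
theorem ns_of_sec (x : MulAut K) (N : Subgroup K) (hx : ∀ a ∈ N, x a ∈ N) (f : N →* S)
    (hf : Function.Surjective f) (x' : MulAut S) (hxf : ∀ a : N, f ⟨x a, hx a a.2⟩ = x' (f a)) (y : K)
    (hy : orderOf y = 2) (hyN : ∀ a ∈ N, y * a * y⁻¹ ∈ N) (d : MulAut S)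
    (hd : ∀ a : N, f ⟨y * a * y⁻¹, hyN a a.2⟩ = d (f a)) {s : S}
    (hns : ¬ Group.IsSolvable ↥(closure ({x', MulAut.conj s * d * (MulAut.conj s)⁻¹} : Set (MulAut S)))) :
    NS x := by
  obtain ⟨a, rfl⟩ := hf s
  refine ⟨(a : K) * y * (a : K)⁻¹, ?_, fun hsol => hns ?_⟩
  · rw [← hy]
    exact (MulAut.conj (a : K)).orderOf_eq y
  set X : MulAut K × MulAut S := (x, x') with hX
  set Z : MulAut K × MulAut S := (MulAut.conj ((a : K) * y * (a : K)⁻¹), MulAut.conj (f a) * d * (MulAut.conj (f a))⁻¹)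
    with hZ
  have hXp : X ∈ pairs f := ⟨hx, hxf⟩
  have hZp : Z ∈ pairs f := by
    have h1 : ((MulAut.conj (a : K), MulAut.conj (f a)) : MulAut K × MulAut S) ∈ pairs f :=
      ⟨fun b hb => mul_mem (mul_mem a.2 hb) (inv_mem a.2), fun b => by
        have e : f (a * b * a⁻¹) = MulAut.conj (f a) (f b) := by
          rw [MulAut.conj_apply, map_mul, map_mul, map_inv]
        exact e⟩
    have h2 : ((MulAut.conj y, d) : MulAut K × MulAut S) ∈ pairs f := ⟨hyN, hd⟩
    have h3 := mul_mem (mul_mem h1 h2) (inv_mem h1)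
    have e : Z = (MulAut.conj (a : K), MulAut.conj (f a)) * (MulAut.conj y, d) *
        ((MulAut.conj (a : K), MulAut.conj (f a)) : MulAut K × MulAut S)⁻¹ := by
      refine Prod.ext ?_ rfl
      rw [hZ]
      simp
    rw [e]
    exact h3
  have hle : closure {X, Z} ≤ pairs f := by
    rw [closure_le]
    rintro g (rfl | rfl)
    · exact hXp
    · exact hZp
  have h1 : (closure {X, Z}).map (MonoidHom.fst (MulAut K) (MulAut S)) =
      closure {x, MulAut.conj ((a : K) * y * (a : K)⁻¹)} := by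
    rw [MonoidHom.map_closure, Set.image_pair]
    rfl
  have h2 : (closure {X, Z}).map (MonoidHom.snd (MulAut K) (MulAut S)) =
      closure {x', MulAut.conj (f a) * d * (MulAut.conj (f a))⁻¹} := by
    rw [MonoidHom.map_closure, Set.image_pair]
    rfl
  have hinj : Function.Injective ((MonoidHom.fst (MulAut K) (MulAut S)).subgroupMap (closure {X, Z})) := by
    rw [injective_iff_map_eq_one]
    rintro ⟨g, hg⟩ h3
    have h4 : g.1 = 1 := congrArg Subtype.val h3
    obtain ⟨hg1, hg2⟩ := hle hg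
    have h5 : g.2 = 1 := by
      ext q
      obtain ⟨b, rfl⟩ := hf q
      rw [← hg2 b, MulAut.one_apply]
      congr 1
      apply Subtype.ext
      change g.1 (b : K) = b
      rw [h4]; rfl
    exact Subtype.ext (Prod.ext h4 h5)
  have h3 : Group.IsSolvable ↥((closure {X, Z}).map (MonoidHom.fst (MulAut K) (MulAut S))) := by
    rw [h1]; exact hsol
  have h4 : Group.IsSolvable ↥(closure {X, Z}) := Group.isSolvable_of_isSolvable_injective hinj
  rw [← h2]
  exact Cfsg.Agent.SignalizersComponents.ComponentExists.isSolvable_map h4 _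

end sec

variable {I W Y : Type*} [Fintype I] [DecidableEq I] [Group W] [Group Y] {M : CoxeterMatrix I}
  {cs : CoxeterSystem M W} {A : I → I → ℤ} {h : IsCartan M A} {r : ℕ} {T : Subgroup Y} {n : I → Y}
  {X : (I → ℤ) → Subgroup Y}

/-- **O6**: `x` normalises `N = M_i V_J` and `V_J` and moves a chamber. -/
theorem ns_of_node (R : RGD cs h r T n X) [Finite W] [Finite Y] [Fact r.Prime] (_hr2 : r ≠ 2) {p : ℕ} [Fact p.Prime]
    (hp : 5 ≤ p) {i : I} (hi : NodeOK T X i) {x : MulAut Y} (hx : orderOf x = p) {J : Set I} (hiJ : i ∈ J)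
    (hN : Iv x (MJ cs h X {i} ⊔ VJ cs h X J)) (hV : Iv x (VJ cs h X J))
    (hne : ∃ m ∈ MJ cs h X {i} ⊔ VJ cs h X J, m⁻¹ * x m ∉ RGD.B cs h T X) : NS x := by
  obtain ⟨F, _, _, φ, y, hF, h1, h1', h2, h2', hyT, hyo, hy1, hy2⟩ := hi
  obtain ⟨hyN, f, x', d, hf, hx', hd, hox, hd1, hd2⟩ := exists_data R hF h1 h1' h2 h2' hiJ hyT hy1 hy2 hx rfl hN hV hne
  obtain ⟨s, hs⟩ := Cfsg.Agent.H191.InvPgl.pgl_base hF hp x' hox d hd1 hd2
  exact ns_of_sec x _ hN f hf x' hx' y hyo hyN d hd hs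

end Cfsg.Agent.H910.Inv
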